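import Groth.Agent.Lib.CxOX1.Gam
import Groth.Agent.Lib.DBC9.Main

/-!
Sections with supports and flat pullback.
-/

set_option autoImplicit false
set_option linter.unusedSectionVars false
set_option linter.style.haveILetI false
set_option backward.isDefEq.respectTransparency false
set_option backward.isDefEq.respectTransparency.types false
set_option maxHeartbeats 800000

universe u

open CategoryTheory CategoryTheory.Limits AlgebraicGeometry Pretriangulated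

attribute [local instance] HasDerivedCategory.standard

namespace Groth.Agent.CxOX1

attribute [local instance] DBC9.hasRpush

open DMon9

variable {X Y : Scheme.{u}}

theorem exists_factor_pull (f : X ⟶ Y) [Flat f] [DCoh.HasLpull f] (U : Y.Opens) [QuasiCompact U.ι]
    [CxOX.HasRgammaZ U.ι] [CxOX.HasRgammaZ (f ⁻¹ᵁ U).ι] (K : DCoh.D Y) (hK : DCoh.IsQCohD K) :
    (∃ β : (DCoh.Lpull f).obj ((CxOX.RgammaZ U.ι).obj K) ⟶ (CxOX.RgammaZ (f ⁻¹ᵁ U).ι).obj ((DCoh.Lpull f).obj K),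
        β ≫ (CxOX.RgammaZToId (f ⁻¹ᵁ U).ι).app ((DCoh.Lpull f).obj K) =
          (DCoh.Lpull f).map ((CxOX.RgammaZToId U.ι).app K)) ∧
    ∀ β : (DCoh.Lpull f).obj ((CxOX.RgammaZ U.ι).obj K) ⟶ (CxOX.RgammaZ (f ⁻¹ᵁ U).ι).obj ((DCoh.Lpull f).obj K),
        β ≫ (CxOX.RgammaZToId (f ⁻¹ᵁ U).ι).app ((DCoh.Lpull f).obj K) =
          (DCoh.Lpull f).map ((CxOX.RgammaZToId U.ι).app K) → IsIso β := by
  obtain ⟨hA, b, c, hT⟩ := DGam9.exists_triangle U.ι K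
  obtain ⟨ng⟩ := nonempty_lpull_natIso_lP f
  have hsq : IsPullback (f ∣_ U) (f ⁻¹ᵁ U).ι U.ι f := isPullback_morphismRestrict f U
  have hS : IsZero ((DPerf.resD (f ⁻¹ᵁ U).ι).obj ((DCoh.Lpull f).obj ((CxOX.RgammaZ U.ι).obj K))) := by
    haveI := (adjLP (f ∣_ U)).isLeftAdjoint
    refine ((lP (f ∣_ U)).map_isZero (hA.of_iso ((lPRes U.ι).app _))).of_iso ?_
    exact (lPRes (f ⁻¹ᵁ U).ι).symm.app _ ≪≫ (lP (f ⁻¹ᵁ U).ι).mapIso (ng.app _) ≪≫
      (DBC9.σcan hsq.w.symm).app _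
  refine ⟨(DGam9.bijective_comp_RgammaZToId _ hS _).2 _, fun β hβ => ?_⟩
  let adj : DCoh.Lpull f ⊣ DCoh.Rpush f := (adjLP f).ofNatIsoLeft ng.symm
  obtain ⟨_, _⟩ := DPush.exists_commShift_isTriangulated f
  letI := adj.leftAdjointCommShift ℤ
  haveI := adj.commShift_of_rightAdjoint ℤ
  haveI : (DCoh.Lpull f).IsTriangulated := adj.isTriangulated_leftAdjoint
  have hgood := DBC9.good_main U.ι f (f ⁻¹ᵁ U).ι (f ∣_ U) hsq fun U₁ hU₁ U₂ hU₂ hle V hV hVU =>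
    DBC9.torIndep_of_flat_left _ _ (f.flat_appLE hU₁ hU₂ hle)
  haveI := hgood (adjLP U.ι) (adjLP (f ⁻¹ᵁ U).ι) (DBC9.σcan hsq.w.symm) ((DPerf.resD U.ι).obj K)
    (resD_isQCohD U.ι hK)
  exact DGam9.isIso_factor _ hS ((DCoh.Lpull f).map_distinguished _ hT)
    (ng.app _ ≪≫ asIso ((DBC9.bc (adjLP U.ι) (adjLP (f ⁻¹ᵁ U).ι) (DBC9.σcan hsq.w.symm).hom).app _)) β hβ

end Groth.Agent.CxOX1
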