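import Groth.Agent.Lib.CxOX1.Supp
import Groth.Agent.Lib.DMon9.LPExtra

/-!
Sections with supports and derived direct images.
-/

set_option autoImplicit false
set_option linter.unusedSectionVars false
set_option linter.style.haveILetI false
set_option backward.isDefEq.respectTransparency false
set_option backward.isDefEq.respectTransparency.types false
set_option maxHeartbeats 800000

universe u

open CategoryTheory CategoryTheory.Limits AlgebraicGeometry Pretriangulated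

attribute [local instance] HasDerivedCategory.standard

namespace Groth.Agent.CxOX1

attribute [local instance] DBC9.hasRpush

open DMon9

variable {X Y Z : Scheme.{u}}

/-- Derived direct images along two factorisations of the same morphism. -/
noncomputable def rpushSquare {Y' : Scheme.{u}} (f : X ⟶ Y) (g : Y ⟶ Z) (f' : X ⟶ Y') (g' : Y' ⟶ Z)
    (w : f ≫ g = f' ≫ g') : DCoh.Rpush f ⋙ DCoh.Rpush g ≅ DCoh.Rpush f' ⋙ DCoh.Rpush g' :=
  (((adjLP g).comp (adjLP f)).ofNatIsoLeft (lPComp f g w ≪≫ (lPComp f' g' rfl).symm)).rightAdjointUniq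
    ((adjLP g').comp (adjLP f'))

theorem exists_factor (f : X ⟶ Y) [DCoh.HasRpush f] (U : Y.Opens) [CxOX.HasRgammaZ U.ι]
    [CxOX.HasRgammaZ (f ⁻¹ᵁ U).ι] (K : DCoh.D X) :
    (∃ α : (DCoh.Rpush f).obj ((CxOX.RgammaZ (f ⁻¹ᵁ U).ι).obj K) ⟶ (CxOX.RgammaZ U.ι).obj ((DCoh.Rpush f).obj K),
        α ≫ (CxOX.RgammaZToId U.ι).app ((DCoh.Rpush f).obj K) =
          (DCoh.Rpush f).map ((CxOX.RgammaZToId (f ⁻¹ᵁ U).ι).app K)) ∧
    ∀ α : (DCoh.Rpush f).obj ((CxOX.RgammaZ (f ⁻¹ᵁ U).ι).obj K) ⟶ (CxOX.RgammaZ U.ι).obj ((DCoh.Rpush f).obj K),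
        α ≫ (CxOX.RgammaZToId U.ι).app ((DCoh.Rpush f).obj K) =
          (DCoh.Rpush f).map ((CxOX.RgammaZToId (f ⁻¹ᵁ U).ι).app K) → IsIso α := by
  obtain ⟨hA, b, c, hT⟩ := DGam9.exists_triangle (f ⁻¹ᵁ U).ι K
  have hS := isZero_resD_rpush f U hA
  refine ⟨(DGam9.bijective_comp_RgammaZToId U.ι hS _).2 _, fun α hα => ?_⟩
  obtain ⟨_, _⟩ := DPush.exists_commShift_isTriangulated f
  exact DGam9.isIso_factor U.ι hS ((DCoh.Rpush f).map_distinguished _ hT)
    ((rpushSquare (f ⁻¹ᵁ U).ι f (f ∣_ U) U.ι (morphismRestrict_ι f U).symm).app _) α hα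

end Groth.Agent.CxOX1
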