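import Groth.Agent.Lib.CxOX1.Supp
import Groth.Agent.Lib.RHom.Exist

/-!
Derived tensor products carry distinguished triangles to distinguished triangles, up to isomorphism.
-/

set_option autoImplicit false
set_option linter.unusedSectionVars false
set_option linter.style.haveILetI false
set_option backward.isDefEq.respectTransparency false
set_option backward.isDefEq.respectTransparency.types false
set_option maxHeartbeats 800000

universe w w' v v' u u'

open CategoryTheory CategoryTheory.Limits CategoryTheory.Pretriangulated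

namespace Groth.Agent.CxOX1

variable {A : Type u} [Category.{v} A] [Abelian A] [HasDerivedCategory.{w} A]
  {B : Type u'} [Category.{v'} B] [Abelian B] [HasDerivedCategory.{w'} B]
  {G : CochainComplex A ℤ ⥤ CochainComplex B ℤ} [G.Additive]

/-- A functor computed by a split-preserving functor on an adapted class sends the first morphism of a
distinguished triangle to one whose cone is the image of the third object. -/
theorem exists_cone_of_adapted (F : DerivedCategory A ⥤ DerivedCategory B) (hG : KFlat.SplitPres G)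
    (P : CochainComplex A ℤ → Prop) (hres : ∀ K, ∃ (K' : CochainComplex A ℤ) (q : K' ⟶ K), P K' ∧ QuasiIso q)
    (hcyl : ∀ {K L : CochainComplex A ℤ} (φ : K ⟶ L), P K → P L →
      P (L ⊞ CochainComplex.mappingCone (𝟙 K)) ∧ P (KFlat.cylCoker φ))
    (η : DerivedCategory.Q ⋙ F ⟶ G ⋙ DerivedCategory.Q) (hη : ∀ K, P K → IsIso (η.app K)) :
    ∀ T : Triangle (DerivedCategory A), T ∈ distTriang _ → ∃ (C' : DerivedCategory B) (b : F.obj T.obj₂ ⟶ C')
      (c : C' ⟶ (F.obj T.obj₁)⟦(1 : ℤ)⟧) (_ : C' ≅ F.obj T.obj₃),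
      Triangle.mk (F.map T.mor₁) b c ∈ distTriang _ := by
  intro T hT
  obtain ⟨K₀, L₀, φ₀, ⟨e₀⟩⟩ := (DerivedCategory.mem_distTriang_iff T).1 hT
  obtain ⟨L, t, hL, ht⟩ := hres L₀
  obtain ⟨Z, s, hs, g, hg⟩ := DerivedCategory.right_fac
    (DerivedCategory.Q.map φ₀ ≫ inv (DerivedCategory.Q.map t))
  obtain ⟨K, r, hK, hr⟩ := hres Z
  let φ : K ⟶ L := r ≫ g
  obtain ⟨hcone, hC⟩ := hcyl φ hK hL
  let S := KFlat.cylSC φ
  have hS := KFlat.cylSC_shortExact φ
  let a : DerivedCategory.Q.obj K ≅ DerivedCategory.Q.obj K₀ :=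
    asIso (DerivedCategory.Q.map r ≫ DerivedCategory.Q.map s)
  haveI : IsIso (DerivedCategory.Q.map (biprod.fst : L ⊞ CochainComplex.mappingCone (𝟙 K) ⟶ L)) := by
    rw [DerivedCategory.isIso_Q_map_iff_quasiIso]
    exact inferInstanceAs (QuasiIso
      (KFlat.fstHomotopyEquiv (X := L) (CochainComplex.mappingCone.homotopyToZeroOfId K)).hom)
  let b : DerivedCategory.Q.obj S.X₂ ≅ DerivedCategory.Q.obj L₀ :=
    asIso (DerivedCategory.Q.map (biprod.fst : L ⊞ CochainComplex.mappingCone (𝟙 K) ⟶ L)) ≪≫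
      asIso (DerivedCategory.Q.map t)
  have hab : DerivedCategory.Q.map S.f ≫ b.hom = a.hom ≫ DerivedCategory.Q.map φ₀ := by
    have h1 : DerivedCategory.Q.map S.f ≫ DerivedCategory.Q.map
        (biprod.fst : L ⊞ CochainComplex.mappingCone (𝟙 K) ⟶ L) = DerivedCategory.Q.map φ := by
      rw [← Functor.map_comp]
      exact congrArg _ (biprod.lift_fst _ _)
    have h2 : DerivedCategory.Q.map g ≫ DerivedCategory.Q.map t =
        DerivedCategory.Q.map s ≫ DerivedCategory.Q.map φ₀ := by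
      have h3 := congrArg (fun x => DerivedCategory.Q.map s ≫ x ≫ DerivedCategory.Q.map t) hg
      simpa using h3.symm
    simp only [a, b, Iso.trans_hom, asIso_hom, Category.assoc]
    rw [reassoc_of% h1]
    simp only [φ, Functor.map_comp, Category.assoc, h2]
  let e : DerivedCategory.triangleOfSES hS ≅ T :=
    isoTriangleOfIso₁₂ _ _ (DerivedCategory.triangleOfSES_distinguished hS)
      (DerivedCategory.mappingCone_triangle_distinguished φ₀) a b hab ≪≫ e₀.symm
  haveI := hη _ hK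
  haveI := hη _ hcone
  haveI := hη _ hC
  let T' := DerivedCategory.triangleOfSES (hG.shortExact S (KFlat.cylSC_splitting φ))
  let i₁ : T'.obj₁ ≅ F.obj T.obj₁ := (asIso (η.app K)).symm ≪≫ F.mapIso (Triangle.π₁.mapIso e)
  let i₂ : T'.obj₂ ≅ F.obj T.obj₂ := (asIso (η.app S.X₂)).symm ≪≫ F.mapIso (Triangle.π₂.mapIso e)
  let i₃ : T'.obj₃ ≅ F.obj T.obj₃ := (asIso (η.app S.X₃)).symm ≪≫ F.mapIso (Triangle.π₃.mapIso e)
  refine ⟨T'.obj₃, i₂.inv ≫ T'.mor₂, T'.mor₃ ≫ i₁.hom⟦(1 : ℤ)⟧', i₃,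
    isomorphic_distinguished T' (DerivedCategory.triangleOfSES_distinguished _) _
      (Triangle.isoMk _ _ i₁.symm i₂.symm (Iso.refl _) ?_ ?_ ?_)⟩
  · show F.map T.mor₁ ≫ i₂.inv = i₁.inv ≫ DerivedCategory.Q.map (G.map S.f)
    simp only [i₁, i₂, Iso.trans_inv, Functor.mapIso_inv, Iso.symm_inv, asIso_hom, Category.assoc,
      ← Functor.map_comp_assoc]
    have n₁ : F.map (DerivedCategory.Q.map S.f) ≫ η.app S.X₂ = η.app S.X₁ ≫ DerivedCategory.Q.map (G.map S.f) :=
      η.naturality S.f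
    rw [show T.mor₁ ≫ (Triangle.π₂.map e.inv) = (Triangle.π₁.map e.inv) ≫ DerivedCategory.Q.map S.f from
      e.inv.comm₁, Functor.map_comp_assoc]
    exact congrArg _ n₁
  · show (i₂.inv ≫ T'.mor₂) ≫ 𝟙 _ = i₂.inv ≫ T'.mor₂
    rw [Category.comp_id]
  · show (T'.mor₃ ≫ i₁.hom⟦(1 : ℤ)⟧') ≫ i₁.inv⟦(1 : ℤ)⟧' = 𝟙 _ ≫ T'.mor₃
    rw [Category.assoc, ← Functor.map_comp, i₁.hom_inv_id, CategoryTheory.Functor.map_id, Category.comp_id, Category.id_comp]

attribute [local instance] HasDerivedCategory.standard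

open KFlat KFlat.Sch AlgebraicGeometry in
/-- The derived tensor product sends a cone to a cone. -/
theorem exists_cone_LT {X : Scheme.{u}} (E : CochainComplex X.Modules ℤ) [DCoh.HasLTensorCx E]
    (T : Triangle (DCoh.D X)) (hT : T ∈ distTriang _) :
    ∃ (C' : DCoh.D X) (b : (DCoh.LTensorCx E).obj T.obj₂ ⟶ C')
      (c : C' ⟶ ((DCoh.LTensorCx E).obj T.obj₁)⟦(1 : ℤ)⟧) (_ : C' ≅ (DCoh.LTensorCx E).obj T.obj₃),
      Triangle.mk ((DCoh.LTensorCx E).map T.mor₁) b c ∈ distTriang _ :=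
  exists_cone_of_adapted (DCoh.LTensorCx E) (splitPres_right (TX X) E) (fun K => IsKFlat (TX X) K)
    RHom.exists_kflat_res
    (fun {K L} φ hK hL => ⟨hL.biprod
      (isKFlat_of_contractible (CochainComplex.mappingCone.homotopyToZeroOfId K)), IsKFlat.cylCoker φ hK hL⟩)
    (RHom.ltCounit E) (fun K hK => RHom.isIso_counit_kflat E K hK) T hT

end Groth.Agent.CxOX1
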