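import Groth.Agent.Lib.CxOX1.SectRep
import Groth.Agent.Lib.CxOX1.Gam
import Groth.Agent.Lib.LocCohZ.DepthGlobal
import Groth.Agent.Lib.RFPlus.MapExtend
import Groth.Agent.Lib.KFlat.Brutal
import Groth.Agent.Lib.AB5.Basic
import Groth.Agent.Lib.CohFound.ProjQuot
import Groth.Agent.Lib.TensorMod.Invertible

/-!
Sections with supports of bounded below complexes of locally free modules along a subset of high depth.
-/

set_option autoImplicit false
set_option linter.unusedSectionVars false
set_option linter.style.haveILetI false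
set_option backward.isDefEq.respectTransparency false
set_option backward.isDefEq.respectTransparency.types false
set_option maxHeartbeats 800000

universe u

open CategoryTheory CategoryTheory.Limits AlgebraicGeometry Pretriangulated ZeroObject

attribute [local instance] HasDerivedCategory.standard

noncomputable section

namespace Groth.Agent.CxOX1

attribute [local instance] DBC9.hasRpush

local notation "Cx" => ComplexShape.up ℤ

variable {U X : Scheme.{u}} (j : U ⟶ X) [IsOpenImmersion j]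

theorem hasRgammaZ : CxOX.HasRgammaZ j :=
  KInjLib.hasRightDerivedFunctor KInjLib.enoughKInj_of_grothendieck _

theorem isGE_resD (K : DCoh.D X) (a : ℤ) (hK : K.IsGE a) : ((DPerf.resD j).obj K).IsGE a := by
  rw [DerivedCategory.isGE_iff] at hK ⊢
  exact fun i hi => ((Scheme.Modules.restrictFunctor j).map_isZero (hK i hi)).of_iso (DPerf.hdResIso j K i)

variable [CxOX.HasRgammaZ j]

theorem isGE_RgammaZ (K : DCoh.D X) (a : ℤ) (hK : K.IsGE a) : ((CxOX.RgammaZ j).obj K).IsGE a := by
  obtain ⟨-, b, c, hT⟩ := DGam9.exists_triangle j K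
  haveI := DPush.isGE_rpush j _ a (isGE_resD j K a hK)
  haveI := DerivedCategory.TStructure.t.isGE_shift ((DCoh.Rpush j).obj ((DPerf.resD j).obj K)) a (-1) (a + 1)
  exact DerivedCategory.TStructure.t.isGE₂ _ (inv_rot_of_distTriang _ hT) a
    (DerivedCategory.TStructure.t.isGE_of_ge (((DCoh.Rpush j).obj ((DPerf.resD j).obj K))⟦(-1 : ℤ)⟧) a (a + 1)) hK

/-- `RΓ_Z` on a K-injective complex. -/
def RgammaQIso (I : CochainComplex X.Modules ℤ) [I.IsKInjective] :
    (CxOX.RgammaZ j).obj (DerivedCategory.Q.obj I) ≅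
      DerivedCategory.Q.obj (((DCoh.gammaZ j).mapHomologicalComplex Cx).obj I) :=
  haveI : IsIso (((CxOX.gammaZKh j).totalRightDerivedUnit DerivedCategory.Qh
      (HomotopyCategory.quasiIso X.Modules Cx)).app ((HomotopyCategory.quotient X.Modules Cx).obj I)) :=
    KInjLib.isIso_app_of_isKInjective KInjLib.enoughKInj_of_grothendieck _ I
  (CxOX.RgammaZ j).mapIso ((DerivedCategory.quotientCompQhIso X.Modules).app I).symm ≪≫
    (asIso (((CxOX.gammaZKh j).totalRightDerivedUnit DerivedCategory.Qh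
      (HomotopyCategory.quasiIso X.Modules Cx)).app ((HomotopyCategory.quotient X.Modules Cx).obj I))).symm ≪≫
    DerivedCategory.Qh.mapIso (((DCoh.gammaZ j).mapHomotopyCategoryFactors Cx).app I) ≪≫
    (DerivedCategory.quotientCompQhIso X.Modules).app _

/-- `RΓ_Z(X, -)` on a K-injective complex. -/
def RsectQIso [CxOX.HasRsectZ j] (I : CochainComplex X.Modules ℤ) [I.IsKInjective] :
    (CxOX.RsectZ j).obj (DerivedCategory.Q.obj I) ≅ DerivedCategory.Q.obj (sectCx j I) :=
  haveI : IsIso (((CxOX.sectZKh j).totalRightDerivedUnit DerivedCategory.Qh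
      (HomotopyCategory.quasiIso X.Modules Cx)).app ((HomotopyCategory.quotient X.Modules Cx).obj I)) :=
    KInjLib.isIso_app_of_isKInjective KInjLib.enoughKInj_of_grothendieck _ I
  (CxOX.RsectZ j).mapIso ((DerivedCategory.quotientCompQhIso X.Modules).app I).symm ≪≫
    (asIso (((CxOX.sectZKh j).totalRightDerivedUnit DerivedCategory.Qh
      (HomotopyCategory.quasiIso X.Modules Cx)).app ((HomotopyCategory.quotient X.Modules Cx).obj I))).symm ≪≫
    DerivedCategory.Qh.mapIso (((CxOX.sectZAb j).mapHomotopyCategoryFactors Cx).app I) ≪≫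
    (DerivedCategory.quotientCompQhIso AddCommGrpCat.{u}).app _

variable {d : ℕ}

theorem depth_stalk (hX : IsLocallyNoetherian X) (V : X.Opens)
    (hdepth : ∀ y : X, y ∉ (V : Set X) → (d : ℕ∞) ≤ LocCoh.depth (X.presheaf.stalk y) (X.presheaf.stalk y))
    (M : X.Modules) (hM : FlatMod.IsFinLocFree M) (x : X) (hx : x ∉ (V : Set X)) :
    (d : ℕ∞) ≤ LocCoh.depth (X.presheaf.stalk x) (M.presheaf.stalk x) := by
  obtain ⟨hfp, hfree⟩ := (M1.isFinLocFree_iff M).1 hM
  haveI := hfree x
  haveI := M1.finite_stalk (CohFound.isCoh_of_isFinLocFree hM).1 (M1.isFP_isFT hfp) x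
  rcases subsingleton_or_nontrivial (M.presheaf.stalk x) with hs | hs
  · simp [LocCoh.depth, LocCoh.idealDepth, Subsingleton.elim (_ : Submodule (X.presheaf.stalk x) (M.presheaf.stalk x)) ⊤]
  · rw [AB5.depth_of_projective]
    exact hdepth x hx

theorem isGE_single [IsLocallyNoetherian X] (V : X.Opens) [CxOX.HasRgammaZ V.ι]
    (hdepth : ∀ y : X, y ∉ (V : Set X) → (d : ℕ∞) ≤ LocCoh.depth (X.presheaf.stalk y) (X.presheaf.stalk y))
    (M : X.Modules) (hM : FlatMod.IsFinLocFree M) (m : ℤ) :
    ((CxOX.RgammaZ V.ι).obj (DerivedCategory.Q.obj ((HomologicalComplex.single X.Modules Cx m).obj M))).IsGE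
      (m + d) := by
  let R := injectiveResolution M
  haveI : R.cochainComplex.IsKInjective := CochainComplex.isKInjective_of_injective _ 0
  haveI : CochainComplex.IsKInjective (R.cochainComplex⟦-m⟧) := inferInstance
  let e : DerivedCategory.Q.obj ((HomologicalComplex.single X.Modules Cx m).obj M) ≅
      DerivedCategory.Q.obj (R.cochainComplex⟦-m⟧) :=
    DerivedCategory.Q.mapIso ((((CochainComplex.singleFunctors X.Modules).shiftIso (-m) m 0 (by simp)).app M).symm) ≪≫
      (DerivedCategory.Q.commShiftIso (-m)).app _ ≪≫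
      (shiftFunctor (DCoh.D X) (-m)).mapIso (asIso (DerivedCategory.Q.map R.ι')) ≪≫
      ((DerivedCategory.Q.commShiftIso (-m)).app _).symm
  suffices h : (DerivedCategory.Q.obj (((DCoh.gammaZ V.ι).mapHomologicalComplex Cx).obj R.cochainComplex)).IsGE d by
    let G₀ := ((DCoh.gammaZ V.ι).mapHomologicalComplex Cx).obj R.cochainComplex
    let G₁ := ((DCoh.gammaZ V.ι).mapHomologicalComplex Cx).obj (R.cochainComplex⟦-m⟧)
    haveI h1 : DerivedCategory.TStructure.t.IsGE ((DerivedCategory.Q ⋙ shiftFunctor (DCoh.D X) (-m)).obj G₀) (m + d) :=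
      DerivedCategory.TStructure.t.isGE_shift (DerivedCategory.Q.obj G₀) d (-m) (m + d)
    haveI h2 : DerivedCategory.TStructure.t.IsGE (DerivedCategory.Q.obj G₁) (m + d) :=
      DerivedCategory.TStructure.t.isGE_of_iso
        (((DerivedCategory.Q.commShiftIso (-m)).app G₀).symm ≪≫
          DerivedCategory.Q.mapIso ((((DCoh.gammaZ V.ι).mapHomologicalComplex Cx).commShiftIso (-m)).app
            R.cochainComplex).symm) (m + d)
    exact DerivedCategory.TStructure.t.isGE_of_iso ((RgammaQIso V.ι _).symm ≪≫ (CxOX.RgammaZ V.ι).mapIso e.symm) (m + d)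
  rw [DerivedCategory.isGE_iff]
  intro i hi
  refine IsZero.of_iso ?_ ((DerivedCategory.homologyFunctorFactors X.Modules i).app _)
  by_cases hi0 : i < 0
  · exact ShortComplex.isZero_homology_of_isZero_X₂ _ ((DCoh.gammaZ V.ι).map_isZero
      (R.cochainComplex.isZero_of_isStrictlyGE 0 i hi0))
  · obtain ⟨q, rfl⟩ := Int.eq_ofNat_of_zero_le (not_lt.1 hi0)
    refine IsZero.of_iso ?_ (RFPlus.homologyMapResolutionIso (DCoh.gammaZ V.ι) R q)
    exact (LocCohZQ.isZero_HZshM_iff V M q).2
      ((LocCohZQ.vanish_iff_depth V M (CohFound.isCoh_of_isFinLocFree hM) d).2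
        (depth_stalk ‹_› V hdepth M hM) q (by omega))

theorem isGE_RgammaZ_iso {K K' : DCoh.D X} (e : K ≅ K') (a : ℤ) (h : ((CxOX.RgammaZ j).obj K).IsGE a) :
    ((CxOX.RgammaZ j).obj K').IsGE a :=
  DerivedCategory.TStructure.t.isGE_of_iso ((CxOX.RgammaZ j).mapIso e) a

/-- Supports in the sense of triangles. -/
theorem isGE_RgammaZ_mid (T : Triangle (DCoh.D X)) (hT : T ∈ distTriang _) (a : ℤ)
    (h₁ : ((CxOX.RgammaZ j).obj T.obj₁).IsGE a) (h₃ : ((CxOX.RgammaZ j).obj T.obj₃).IsGE a) :
    ((CxOX.RgammaZ j).obj T.obj₂).IsGE a := by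
  obtain ⟨_, _⟩ := SiteRlim.exists_commShift_isTriangulated
    ((CxOX.gammaZKh j).totalRightDerivedUnit DerivedCategory.Qh (HomotopyCategory.quasiIso X.Modules Cx))
    KInjLib.enoughKInj_of_grothendieck
  exact DerivedCategory.TStructure.t.isGE₂ _ ((CxOX.RgammaZ j).map_distinguished T hT) a h₁ h₃

theorem isGE_of_terms [IsLocallyNoetherian X] (V : X.Opens) [CxOX.HasRgammaZ V.ι]
    (hdepth : ∀ y : X, y ∉ (V : Set X) → (d : ℕ∞) ≤ LocCoh.depth (X.presheaf.stalk y) (X.presheaf.stalk y))
    (a : ℤ) (ha : (d : ℤ) ≤ a) :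
    ∀ (k : ℕ) (c : ℤ) (L : CochainComplex X.Modules ℤ), a ≤ c → c + k = a + d + 1 →
      L.IsStrictlyGE c → (∀ i, c ≤ i → FlatMod.IsFinLocFree (L.X i)) →
        ((CxOX.RgammaZ V.ι).obj (DerivedCategory.Q.obj L)).IsGE (a + d) := by
  intro k
  induction k with
  | zero =>
    intro c L _ hc hge _
    haveI := hge
    haveI : (DerivedCategory.Q.obj L).IsGE c := inferInstance
    haveI := isGE_RgammaZ V.ι (DerivedCategory.Q.obj L) c inferInstance
    exact DerivedCategory.TStructure.t.isGE_of_ge _ (a + d) c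
  | succ k ih =>
    intro c L hac hc hge hL
    haveI := hge
    let S' := ShortComplex.mk (KFlat.brutι L (c + 1)) (cokernel.π _) (cokernel.condition _)
    have hS' : S'.ShortExact := ShortComplex.ShortExact.mk' (ShortComplex.exact_cokernel _) inferInstance inferInstance
    have hdeg : ∀ i, (S'.map (HomologicalComplex.eval X.Modules Cx i)).ShortExact := fun i => hS'.map_of_exact _
    have hC₁ : ∀ i, c + 1 ≤ i → IsZero (S'.X₃.X i) := fun i hi => by
      haveI := KFlat.isIso_brutι_f L hi
      haveI : IsIso (S'.map (HomologicalComplex.eval X.Modules Cx i)).f := this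
      exact (hdeg i).isIso_f_iff.1 inferInstance
    have hC₀ : ∀ i, i < c + 1 → Nonempty (L.X i ≅ S'.X₃.X i) := fun i hi => by
      haveI : IsIso (S'.map (HomologicalComplex.eval X.Modules Cx i)).g :=
        (hdeg i).isIso_g_iff.2 (KFlat.brutGE_isZero L hi)
      exact ⟨asIso (S'.map (HomologicalComplex.eval X.Modules Cx i)).g⟩
    haveI : (S'.X₃).IsStrictlyGE c := (CochainComplex.isStrictlyGE_iff _ _).2 fun i hi =>
      let ⟨e⟩ := hC₀ i (by omega)
      (L.isZero_of_isStrictlyGE c i hi).of_iso e.symm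
    haveI : (S'.X₃).IsStrictlyLE c := (CochainComplex.isStrictlyLE_iff _ _).2 fun i hi => hC₁ i (by omega)
    refine isGE_RgammaZ_mid V.ι _ (DerivedCategory.triangleOfSES_distinguished hS') (a + d) ?_ ?_
    · exact ih (c + 1) (KFlat.brutGE L (c + 1)) (by omega) (by omega) inferInstance fun i hi =>
        M2.isFinLocFree_of_iso (KFlat.brutIso L hi).symm (hL i (by omega))
    · obtain ⟨N, ⟨eN⟩⟩ := CochainComplex.exists_iso_single S'.X₃ c
      obtain ⟨e'⟩ := hC₀ c (by omega)
      let eL : L.X c ≅ N := e' ≪≫ HomologicalComplex.Hom.isoApp eN c ≪≫ HomologicalComplex.singleObjXSelf Cx c N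
      refine isGE_RgammaZ_iso V.ι (DerivedCategory.Q.mapIso eN).symm (a + d) ?_
      haveI := isGE_single V hdepth N (M2.isFinLocFree_of_iso eL (hL c le_rfl)) c
      exact DerivedCategory.TStructure.t.isGE_of_ge _ (a + d) (c + d)

end Groth.Agent.CxOX1
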