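import Groth.Agent.Lib.CxOX1.SectDepth

/-!
Cohomology with supports below and at twice the depth.
-/

set_option autoImplicit false
set_option linter.unusedSectionVars false
set_option linter.style.haveILetI false
set_option backward.isDefEq.respectTransparency false
set_option backward.isDefEq.respectTransparency.types false
set_option maxHeartbeats 800000

universe u

open CategoryTheory CategoryTheory.Limits AlgebraicGeometry Pretriangulated Opposite

attribute [local instance] HasDerivedCategory.standard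

noncomputable section

namespace Groth.Agent.CxOX1

attribute [local instance] DBC9.hasRpush

open DMon9

local notation "Cx" => ComplexShape.up ℤ

variable {U X : Scheme.{u}} (j : U ⟶ X) [IsOpenImmersion j]

/-- Direct image from the range of an open immersion. -/
def rpushRangeIso : DCoh.Rpush j.opensRange.ι ≅ DCoh.Rpush j.isoOpensRange.inv ⋙ DCoh.Rpush j :=
  ((((adjLP j).comp (adjLP j.isoOpensRange.inv)).ofNatIsoLeft
    (lPComp j.isoOpensRange.inv j (h := j.opensRange.ι) (by simp))).rightAdjointUniq (adjLP j.opensRange.ι)).symm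

theorem nonempty_RgammaZ_range [CxOX.HasRgammaZ j] [CxOX.HasRgammaZ j.opensRange.ι] (K : DCoh.D X) :
    Nonempty ((CxOX.RgammaZ j.opensRange.ι).obj K ≅ (CxOX.RgammaZ j).obj K) := by
  obtain ⟨hA, b, c, hT⟩ := DGam9.exists_triangle j.opensRange.ι K
  have hS : IsZero ((DPerf.resD j).obj ((CxOX.RgammaZ j.opensRange.ι).obj K)) := by
    rw [isZero_resD_iff]
    refine fun i => (((isZero_resD_iff _).1 hA) i).trans (Set.compl_subset_compl.2 ?_)
    rw [Scheme.Opens.range_ι]
    exact fun x hx => hx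
  obtain ⟨φ, hφ⟩ := (DGam9.bijective_comp_RgammaZToId j hS K).2 ((CxOX.RgammaZToId j.opensRange.ι).app K)
  haveI := DGam9.isIso_factor j hS hT ((rpushRangeIso j).app _) φ hφ
  exact ⟨asIso φ⟩

theorem isGE_RgammaZ_complex [IsLocallyNoetherian X] [CxOX.HasRgammaZ j] (d : ℕ)
    (hdepth : ∀ y : X, y ∉ Set.range j.base → (d : ℕ∞) ≤ LocCoh.depth (X.presheaf.stalk y) (X.presheaf.stalk y))
    (K : CochainComplex X.Modules ℤ) (hK : ∀ i : ℤ, i < (d : ℤ) → IsZero (K.X i))
    (hKlf : ∀ i : ℤ, FlatMod.IsFinLocFree (K.X i)) :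
    ((CxOX.RgammaZ j).obj (DCoh.toD X K)).IsGE (2 * (d : ℤ)) := by
  haveI := hasRgammaZ j.opensRange.ι
  haveI : K.IsStrictlyGE d := (CochainComplex.isStrictlyGE_iff _ _).2 hK
  haveI h := isGE_of_terms j.opensRange (d := d) (fun y hy => hdepth y hy) d le_rfl (d + 1) d K le_rfl
    (by push_cast; ring) inferInstance fun i _ => hKlf i
  obtain ⟨e⟩ := nonempty_RgammaZ_range j (DCoh.toD X K)
  rw [two_mul]
  exact DerivedCategory.TStructure.t.isGE_of_iso e ((d : ℤ) + d)

theorem isZero_restrict_OZ : IsZero ((Scheme.Modules.restrictFunctor j).obj (OZ j)) := by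
  refine IsZero.of_iso ?_ (PreservesCokernel.iso (Scheme.Modules.restrictFunctor j) (extCounit j))
  haveI : IsSplitEpi ((Scheme.Modules.restrictFunctor j).map (extCounit j)) :=
    IsSplitEpi.mk' ⟨(CxOX.extZeroAdj j).unit.app _, (CxOX.extZeroAdj j).right_triangle_components _⟩
  exact isZero_cokernel_of_epi _

theorem isZero_resD_SZ (n : ℤ) : IsZero ((DPerf.resD j).obj (DerivedCategory.Q.obj (SZ j n))) := by
  refine IsZero.of_iso (DerivedCategory.Q.map_isZero ?_)
    ((Scheme.Modules.restrictFunctor j).mapDerivedCategoryFactors.app (SZ j n))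
  exact (((HomologicalComplex.single _ Cx n).map_isZero (isZero_restrict_OZ j))).of_iso
    ((HomologicalComplex.singleMapHomologicalComplex (Scheme.Modules.restrictFunctor j) Cx n).app (OZ j))

/-- Cohomology with supports as maps into `RΓ_Z`. -/
theorem nonempty_homology_Rsect [CxOX.HasRsectZ j] [CxOX.HasRgammaZ j] (K : DCoh.D X) (n : ℤ) :
    Nonempty ((DerivedCategory.homologyFunctor AddCommGrpCat.{u} n).obj ((CxOX.RsectZ j).obj K) ≃+
      (DerivedCategory.Q.obj (SZ j n) ⟶ (CxOX.RgammaZ j).obj K)) := by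
  obtain ⟨I, φ, hI, hφ, -, -⟩ := KInjLib.exists_resolution (DerivedCategory.Q.objPreimage K)
  let e : DerivedCategory.Q.obj I ≅ K :=
    (asIso (DerivedCategory.Q.map φ)).symm ≪≫ DerivedCategory.Q.objObjPreimageIso K
  refine ⟨((DerivedCategory.homologyFunctor AddCommGrpCat.{u} n).mapIso ((CxOX.RsectZ j).mapIso e.symm ≪≫
      RsectQIso j I) ≪≫ (DerivedCategory.homologyFunctorFactors AddCommGrpCat.{u} n).app _).addCommGroupIsoToAddEquiv.trans
    ((homologyEquiv j I n).trans ?_)⟩
  refine AddEquiv.trans ?_ (AddEquiv.ofBijective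
    (AddMonoidHom.mk' (fun s : DerivedCategory.Q.obj (SZ j n) ⟶ (CxOX.RgammaZ j).obj K =>
      s ≫ (CxOX.RgammaZToId j).app K) fun s t => Preadditive.add_comp _ _ _ _ _ _)
    (DGam9.bijective_comp_RgammaZToId j (isZero_resD_SZ j n) K)).symm
  exact AddEquiv.ofBijective (AddMonoidHom.mk' (fun s => s ≫ e.hom) fun s t => Preadditive.add_comp _ _ _ _ _ _)
    ⟨fun s t h => (cancel_mono e.hom).1 h, fun s => ⟨s ≫ e.inv, by simp⟩⟩

theorem subsingleton_hom_SZ (A : DCoh.D X) (n m : ℤ) (h : n < m) [A.IsGE m] :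
    Subsingleton (DerivedCategory.Q.obj (SZ j n) ⟶ A) := by
  haveI : DerivedCategory.TStructure.t.IsLE (DerivedCategory.Q.obj (SZ j n)) n :=
    inferInstanceAs (DerivedCategory.IsLE (DerivedCategory.Q.obj (SZ j n)) n)
  exact ⟨fun f g => (DerivedCategory.TStructure.t.zero f n m h).trans (DerivedCategory.TStructure.t.zero g n m h).symm⟩

theorem nonempty_hom_homology (Q : X.Modules) (A : DCoh.D X) (n : ℤ) [A.IsGE n] :
    Nonempty ((DerivedCategory.Q.obj ((HomologicalComplex.single X.Modules Cx n).obj Q) ⟶ A) ≃+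
      (Q ⟶ DCoh.HD A n)) := by
  let t : Triangulated.TStructure (DCoh.D X) := DerivedCategory.TStructure.t
  let T := (t.triangleLEGT n).obj A
  have hT : T ∈ distTriang _ := t.triangleLEGT_distinguished n A
  haveI h3 : t.IsGE T.obj₃ (n + 1) := t.isGE_truncGT_obj A n (n + 1)
  haveI h3' : t.IsGE (T.obj₃⟦(-1 : ℤ)⟧) (n + 2) := t.isGE_shift T.obj₃ (n + 1) (-1) (n + 2)
  haveI h1 : t.IsGE T.obj₁ n :=
    t.isGE₂ _ (inv_rot_of_distTriang _ hT) n (t.isGE_of_ge (T.obj₃⟦(-1 : ℤ)⟧) n (n + 2)) ‹A.IsGE n›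
  haveI h1' : t.IsLE T.obj₁ n := t.isLE_truncLE_obj A n n
  obtain ⟨Y, ⟨eY⟩⟩ := @DerivedCategory.exists_iso_singleFunctor_obj_of_isGE_of_isLE _ _ _ _ T.obj₁ n h1 h1'
  let S := DerivedCategory.Q.obj ((HomologicalComplex.single X.Modules Cx n).obj Q)
  haveI hS : t.IsLE S n := inferInstanceAs (DerivedCategory.IsLE S n)
  have hbij : Function.Bijective (fun s : S ⟶ T.obj₁ => s ≫ T.mor₁) := by
    refine ⟨fun s s' (h : s ≫ T.mor₁ = s' ≫ T.mor₁) => ?_, fun g => ?_⟩
    · obtain ⟨r, hr⟩ := Triangle.coyoneda_exact₂ _ (inv_rot_of_distTriang _ hT) (s - s')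
        (show (s - s') ≫ T.mor₁ = 0 by rw [Preadditive.sub_comp, h, sub_self])
      refine sub_eq_zero.1 (hr.trans ?_)
      rw [show r = 0 from @Triangulated.TStructure.zero _ _ _ _ _ _ _ t S (T.obj₃⟦(-1 : ℤ)⟧) r n (n + 2) (by omega) hS h3',
        zero_comp]
    · obtain ⟨r, hr⟩ := Triangle.coyoneda_exact₂ _ hT g
        (@Triangulated.TStructure.zero _ _ _ _ _ _ _ t S T.obj₃ (g ≫ T.mor₂) n (n + 1) (by omega) hS h3)
      exact ⟨r, hr.symm⟩
  have hH : IsIso ((DerivedCategory.homologyFunctor X.Modules n).map T.mor₁) := by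
    haveI := (DerivedCategory.HomologySequence.mono_homologyMap_mor₁_iff T hT (n - 1) n).2
      ((@DerivedCategory.isZero_of_isGE _ _ _ _ T.obj₃ (n + 1) (n - 1) (by omega) h3).eq_of_src _ _)
    haveI := (DerivedCategory.HomologySequence.epi_homologyMap_mor₁_iff T hT n).2
      ((@DerivedCategory.isZero_of_isGE _ _ _ _ T.obj₃ (n + 1) n (by omega) h3).eq_of_tgt _ _)
    exact isIso_of_mono_of_epi _
  let eH : Y ≅ DCoh.HD A n :=
    ((DerivedCategory.singleFunctorCompHomologyFunctorIso X.Modules n).app Y).symm ≪≫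
      (DerivedCategory.homologyFunctor X.Modules n).mapIso eY.symm ≪≫
      @asIso _ _ _ _ ((DerivedCategory.homologyFunctor X.Modules n).map T.mor₁) hH
  let eQ : S ≅ (DerivedCategory.singleFunctor X.Modules n).obj Q :=
    (((SingleFunctors.evaluation _ _ n).mapIso (DerivedCategory.singleFunctorsPostcompQIso X.Modules)).app Q).symm
  refine ⟨(AddEquiv.ofBijective (AddMonoidHom.mk' (fun s : S ⟶ T.obj₁ => s ≫ T.mor₁)
    fun s s' => Preadditive.add_comp _ _ _ _ _ _) hbij).symm.trans ?_⟩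
  refine AddEquiv.trans ?_ (AddEquiv.trans (AddEquiv.ofBijective
    ((DerivedCategory.singleFunctor X.Modules n).mapAddHom (X := Q) (Y := Y))
    ⟨(DerivedCategory.singleFunctor X.Modules n).map_injective,
      (DerivedCategory.singleFunctor X.Modules n).map_surjective⟩).symm ?_)
  · exact AddEquiv.ofBijective (AddMonoidHom.mk' (fun s => eQ.inv ≫ s ≫ eY.hom) fun s s' => by
      simp only [Preadditive.add_comp, Preadditive.comp_add])
      ⟨fun s s' h => (cancel_mono eY.hom).1 ((cancel_epi eQ.inv).1 h), fun s => ⟨eQ.hom ≫ s ≫ eY.inv, by simp⟩⟩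
  · exact AddEquiv.ofBijective (AddMonoidHom.mk' (fun s => s ≫ eH.hom) fun s s' => Preadditive.add_comp _ _ _ _ _ _)
      ⟨fun s s' h => (cancel_mono eH.hom).1 h, fun s => ⟨s ≫ eH.inv, by simp⟩⟩

/-- Maps out of `OZ` into a module vanishing on `U` are its sections. -/
def sectOfVanish {H : X.Modules} (hH : IsZero ((Scheme.Modules.restrictFunctor j).obj H)) :
    (OZ j ⟶ H) ≃+ (DCoh.gammaAb X).obj H :=
  haveI : IsIso (kernel.ι ((Scheme.Modules.restrictAdjunction j).unit.app H)) := by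
    have h : (Scheme.Modules.restrictAdjunction j).unit.app H = 0 :=
      ((Scheme.Modules.pushforward j).map_isZero hH).eq_of_tgt _ _
    exact ⟨kernel.lift _ (𝟙 H) (by rw [h, comp_zero]), equalizer.hom_ext (by simp), by simp⟩
  (sectEquiv j H).trans
    ((DCoh.gammaAb X).mapIso (asIso (kernel.ι ((Scheme.Modules.restrictAdjunction j).unit.app H)))).addCommGroupIsoToAddEquiv

end Groth.Agent.CxOX1
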