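import Groth.Agent.Lib.CxOX1.Supp
import Mathlib.Algebra.Category.Grp.Abelian
import Mathlib.Algebra.Homology.ShortComplex.Ab
import Mathlib.Algebra.Homology.DerivedCategory.KInjective
import Mathlib.Algebra.Homology.DerivedCategory.TStructure
import Mathlib.Algebra.Homology.DerivedCategory.FullyFaithful

/-!
Global sections with support as maps out of the cokernel of `j_! O_U ⟶ O_X`, and their derived functor as
morphisms in the derived category.
-/

set_option autoImplicit false
set_option linter.unusedSectionVars false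
set_option linter.style.haveILetI false
set_option backward.isDefEq.respectTransparency false
set_option backward.isDefEq.respectTransparency.types false
set_option maxHeartbeats 800000

universe u

open CategoryTheory CategoryTheory.Limits AlgebraicGeometry Opposite

attribute [local instance] HasDerivedCategory.standard

noncomputable section

namespace Groth.Agent.CxOX1

attribute [local instance] DBC9.hasRpush

local notation "Cx" => ComplexShape.up ℤ

variable {U X : Scheme.{u}} (j : U ⟶ X) [IsOpenImmersion j]

/-- The counit `j_! O_U ⟶ O_X`. -/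
abbrev extCounit := (CxOX.extZeroAdj j).counit.app (Coh.structureModule X)

/-- The structure module of the closed complement, as the cokernel of `j_! O_U ⟶ O_X`. -/
abbrev OZ : X.Modules := cokernel (extCounit j)

variable {j}

theorem comp_eq_zero_iff {F : X.Modules} (φ : Coh.structureModule X ⟶ F) :
    extCounit j ≫ φ = 0 ↔ φ ≫ (Scheme.Modules.restrictAdjunction j).unit.app F = 0 := by
  have h1 : extCounit j ≫ φ = 0 ↔ (Scheme.Modules.restrictFunctor j).map φ = 0 := by
    rw [← ((CxOX.extZeroAdj j).homEquiv _ _).apply_eq_iff_eq, Adjunction.homEquiv_unit, Adjunction.homEquiv_unit,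
      Functor.map_comp, Functor.map_zero, comp_zero, (CxOX.extZeroAdj j).right_triangle_components_assoc]
  have h2 : φ ≫ (Scheme.Modules.restrictAdjunction j).unit.app F = 0 ↔
      (Scheme.Modules.restrictFunctor j).map φ = 0 := by
    have hn := (Scheme.Modules.restrictAdjunction j).unit.naturality φ
    rw [Functor.id_map] at hn
    rw [hn]
    refine Iff.trans ?_ (((Scheme.Modules.restrictAdjunction j).homEquiv _ _).apply_eq_iff_eq
      (x := (Scheme.Modules.restrictFunctor j).map φ) (y := 0))
    rw [Adjunction.homEquiv_unit, Adjunction.homEquiv_unit, Functor.map_zero, comp_zero]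
    rfl
  exact h1.trans h2.symm

/-- A map out of `OZ` as a map of the structure module to the sections with support. -/
abbrev toGamma {F : X.Modules} (g : OZ j ⟶ F) : Coh.structureModule X ⟶ (DCoh.gammaZ j).obj F :=
  kernel.lift _ (cokernel.π (extCounit j) ≫ g)
    ((comp_eq_zero_iff _).1 (by rw [cokernel.condition_assoc, zero_comp]))

variable (j)

theorem toGamma_comp {F G : X.Modules} (g : OZ j ⟶ F) (φ : F ⟶ G) :
    toGamma (g ≫ φ) = toGamma g ≫ (DCoh.gammaZ j).map φ := by
  refine equalizer.hom_ext ?_
  simp [toGamma, DCoh.gammaZ]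

/-- Maps out of `OZ` are global sections with support. -/
def sectEquiv (F : X.Modules) : (OZ j ⟶ F) ≃+ (CxOX.sectZAb j).obj F :=
  AddEquiv.ofBijective
    (AddMonoidHom.mk' (fun g => (toGamma g).app ⊤ (M1.one ⊤)) fun g g' => by
      have h : toGamma (g + g') = toGamma g + toGamma g' := equalizer.hom_ext (by simp [toGamma])
      show (toGamma (g + g')).app ⊤ (M1.one ⊤) = _
      rw [h]
      rfl)
    ⟨fun g g' hgg => by
      have h := congrArg (· ≫ kernel.ι _) (M1.unit_hom_ext (f := toGamma g) (g := toGamma g') hgg)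
      simp only [kernel.lift_ι, cancel_epi] at h
      exact h,
    fun s => by
      refine ⟨cokernel.desc _ (M1.secHom s ≫ kernel.ι _)
        ((comp_eq_zero_iff _).2 (by rw [Category.assoc, kernel.condition, comp_zero])), ?_⟩
      refine (congrArg (fun t : Coh.structureModule X ⟶ _ => t.app ⊤ (M1.one ⊤)) ?_).trans (M1.secHom_app_one s)
      exact equalizer.hom_ext (by simp [toGamma])⟩

theorem sectEquiv_naturality {F G : X.Modules} (g : OZ j ⟶ F) (φ : F ⟶ G) :
    sectEquiv j G (g ≫ φ) = ((CxOX.sectZAb j).map φ).hom (sectEquiv j F g) :=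
  congrArg (fun t : Coh.structureModule X ⟶ _ => t.app ⊤ (M1.one ⊤)) (toGamma_comp j g φ)

variable (I : CochainComplex X.Modules ℤ) (n : ℤ)

/-- Sections with support of a complex. -/
abbrev sectCx : CochainComplex AddCommGrpCat.{u} ℤ := ((CxOX.sectZAb j).mapHomologicalComplex Cx).obj I

/-- `OZ` in degree `n`. -/
abbrev SZ : CochainComplex X.Modules ℤ := (HomologicalComplex.single X.Modules Cx n).obj (OZ j)

variable {j I n}

theorem cocycle_d (x : AddMonoidHom.ker ((sectCx j I).d n (n + 1)).hom) (k : ℤ) (hk : (Cx).Rel n k) :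
    (sectEquiv j _).symm x.1 ≫ I.d n k = 0 := by
  obtain rfl : n + 1 = k := hk
  apply (sectEquiv j _).injective
  rw [map_zero, sectEquiv_naturality, AddEquiv.apply_symm_apply]
  exact x.2

/-- The morphism of complexes given by a cocycle. -/
def cocycleHom (x : AddMonoidHom.ker ((sectCx j I).d n (n + 1)).hom) : SZ j n ⟶ I :=
  HomologicalComplex.mkHomFromSingle ((sectEquiv j _).symm x.1) (cocycle_d x)

theorem cocycleHom_f (x : AddMonoidHom.ker ((sectCx j I).d n (n + 1)).hom) :
    (cocycleHom x).f n = (HomologicalComplex.singleObjXSelf Cx n (OZ j)).hom ≫ (sectEquiv j _).symm x.1 :=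
  HomologicalComplex.mkHomFromSingle_f _ _

variable (j I n)

/-- Classes of cocycles in the derived category. -/
def classMap : AddMonoidHom.ker ((sectCx j I).d n (n + 1)).hom →+
    (DerivedCategory.Q.obj (SZ j n) ⟶ DerivedCategory.Q.obj I) :=
  AddMonoidHom.mk' (fun x => DerivedCategory.Q.map (cocycleHom x)) fun x y => by
    rw [← Functor.map_add]
    refine congrArg _ (HomologicalComplex.from_single_hom_ext ?_)
    simp [cocycleHom_f]

theorem Q_map_eq_zero_iff [I.IsKInjective] (φ : SZ j n ⟶ I) :
    DerivedCategory.Q.map φ = 0 ↔ Nonempty (Homotopy φ 0) := by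
  rw [← Functor.map_zero (DerivedCategory.Q (C := X.Modules)) (X := SZ j n) (Y := I),
    ← NatIso.naturality_1 (DerivedCategory.quotientCompQhIso X.Modules) φ,
    ← NatIso.naturality_1 (DerivedCategory.quotientCompQhIso X.Modules) (0 : SZ j n ⟶ I), cancel_epi, cancel_mono]
  simp only [Functor.comp_map]
  refine ((CochainComplex.IsKInjective.Qh_map_bijective _ I).1.eq_iff).trans ?_
  exact ⟨fun h => ⟨HomotopyCategory.homotopyOfEq _ _ h⟩, fun ⟨h⟩ => HomotopyCategory.eq_of_homotopy _ _ h⟩

theorem classMap_surjective [I.IsKInjective] : Function.Surjective (classMap j I n) := fun α => by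
  obtain ⟨f, hf⟩ := (CochainComplex.IsKInjective.Qh_map_bijective
    ((HomotopyCategory.quotient X.Modules Cx).obj (SZ j n)) I).2
    ((DerivedCategory.quotientCompQhIso X.Modules).hom.app _ ≫ α ≫
      (DerivedCategory.quotientCompQhIso X.Modules).inv.app _)
  obtain ⟨φ, rfl⟩ := (HomotopyCategory.quotient X.Modules Cx).map_surjective f
  refine ⟨⟨sectEquiv j _ ((HomologicalComplex.singleObjXSelf Cx n (OZ j)).inv ≫ φ.f n), ?_⟩, ?_⟩
  · show ((sectCx j I).d n (n + 1)).hom _ = 0
    refine (sectEquiv_naturality j _ _).symm.trans ?_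
    rw [Category.assoc, φ.comm, HomologicalComplex.single_obj_d, zero_comp, comp_zero, map_zero]
  · show DerivedCategory.Q.map (cocycleHom _) = α
    refine (congrArg _ (HomologicalComplex.from_single_hom_ext (g := φ) ?_)).trans ?_
    · simp [cocycleHom_f]
    · rw [← NatIso.naturality_1 (DerivedCategory.quotientCompQhIso X.Modules) φ]
      simp only [Functor.comp_map]
      rw [hf]
      simp

theorem classMap_eq_zero_iff [I.IsKInjective] (x : AddMonoidHom.ker ((sectCx j I).d n (n + 1)).hom) :
    classMap j I n x = 0 ↔ ∃ y, ((sectCx j I).d (n - 1) n).hom y = x.1 := by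
  refine (Q_map_eq_zero_iff j I n (cocycleHom x)).trans ⟨fun ⟨h⟩ => ?_, fun ⟨y, hy⟩ => ?_⟩
  · refine ⟨sectEquiv j _ ((HomologicalComplex.singleObjXSelf Cx n (OZ j)).inv ≫ h.hom n (n - 1)), ?_⟩
    refine (sectEquiv_naturality j _ _).symm.trans ?_
    apply (sectEquiv j _).symm.injective
    rw [AddEquiv.symm_apply_apply]
    have hc := h.comm n
    rw [dNext_eq h.hom (show (Cx).Rel n (n + 1) from rfl), prevD_eq h.hom (show (Cx).Rel (n - 1) n by simp),
      HomologicalComplex.single_obj_d, zero_comp, zero_add, cocycleHom_f, HomologicalComplex.zero_f,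
      add_zero] at hc
    rw [Category.assoc]
    refine Eq.trans ?_ (Iso.inv_hom_id_assoc (HomologicalComplex.singleObjXSelf Cx n (OZ j)) _)
    exact congrArg (_ ≫ ·) hc.symm
  · let g := (HomologicalComplex.singleObjXSelf Cx n (OZ j)).hom ≫ (sectEquiv j _).symm y
    have hg : g ≫ I.d (n - 1) n = (cocycleHom x).f n := by
      rw [cocycleHom_f, Category.assoc]
      refine congrArg (_ ≫ ·) ((sectEquiv j _).injective ?_)
      rw [sectEquiv_naturality, AddEquiv.apply_symm_apply, AddEquiv.apply_symm_apply]
      exact hy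
    let hom : ∀ a b : ℤ, (SZ j n).X a ⟶ I.X b := fun a b =>
      if h : a = n ∧ b = n - 1 then eqToHom (by rw [h.1]) ≫ g ≫ eqToHom (by rw [h.2]) else 0
    refine ⟨{ hom := hom, zero := fun a b hab => ?_, comm := fun a => ?_ }⟩
    · simp only [hom]
      rw [dif_neg]
      rintro ⟨rfl, rfl⟩
      exact hab (by simp)
    · by_cases ha : a = n
      · subst ha
        rw [dNext_eq hom (show (Cx).Rel a (a + 1) from rfl), prevD_eq hom (show (Cx).Rel (a - 1) a by simp),
          HomologicalComplex.single_obj_d, zero_comp, zero_add, HomologicalComplex.zero_f, add_zero]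
        simp [hom, hg]
      · exact (HomologicalComplex.isZero_single_obj_X Cx n (OZ j) a ha).eq_of_src _ _

/-- Cohomology of sections with support of a K-injective complex. -/
def homologyEquiv [I.IsKInjective] :
    (sectCx j I).homology n ≃+ (DerivedCategory.Q.obj (SZ j n) ⟶ DerivedCategory.Q.obj I) :=
  let S := (sectCx j I).sc' (n - 1) n (n + 1)
  let φ : AddMonoidHom.ker S.g.hom →+ (DerivedCategory.Q.obj (SZ j n) ⟶ DerivedCategory.Q.obj I) := classMap j I n
  ((ShortComplex.homologyMapIso ((sectCx j I).isoSc' (n - 1) n (n + 1) (by simp) (by simp))) ≪≫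
    S.abLeftHomologyData.homologyIso).addCommGroupIsoToAddEquiv.trans
    ((QuotientAddGroup.quotientAddEquivOfEq (by
        ext x
        refine Iff.trans ?_ (AddMonoidHom.mem_ker.trans (classMap_eq_zero_iff j I n x)).symm
        exact ⟨fun ⟨y, hy⟩ => ⟨y, congrArg Subtype.val hy⟩,
          fun ⟨y, hy⟩ => ⟨y, Subtype.ext hy⟩⟩ :
        AddMonoidHom.range S.abToCycles = φ.ker)).trans
      (QuotientAddGroup.quotientKerEquivOfSurjective φ (classMap_surjective j I n)))

end Groth.Agent.CxOX1
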