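import Groth.Agent.Lib.DGam9.Basic
import Groth.Agent.Lib.DGen9.Basics
import Groth.Agent.Lib.DBC9.Good
import Groth.Agent.Lib.ModM1.Local

/-!
Objects with supports and derived direct images along open immersions.
-/

set_option autoImplicit false
set_option linter.unusedSectionVars false
set_option linter.style.haveILetI false
set_option backward.isDefEq.respectTransparency false
set_option backward.isDefEq.respectTransparency.types false
set_option maxHeartbeats 800000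

universe u

open CategoryTheory CategoryTheory.Limits AlgebraicGeometry Pretriangulated

attribute [local instance] HasDerivedCategory.standard

namespace Groth.Agent.CxOX1

attribute [local instance] DBC9.hasRpush

open DMon9

variable {X Y U : Scheme.{u}} (j : U ⟶ X) [IsOpenImmersion j]

theorem isZero_resD_iff {K : DCoh.D X} : IsZero ((DPerf.resD j).obj K) ↔ CxOX.IsSuppD j K :=
  ⟨fun h => DGen9.suppOn_of_isZero_resD j h, fun h => DGen9.isZero_resD_of_suppOn j h fun u hu => hu ⟨u, rfl⟩⟩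

theorem isZero_of_suppOn_empty {K : DCoh.D X} (h : DGen9.SuppOn (∅ : Set X) K) : IsZero K :=
  DMV.isZero_of_hd fun i => DPerf.isZero_of_stalks fun x =>
    AddCommGrpCat.subsingleton_of_isZero (DGen9.stalkZero_of_suppOn h (Set.notMem_empty x) i)

theorem suppOn_of_isSuppD {K : DCoh.D X} (h : CxOX.IsSuppD j K) {T : Set X} (hT : (Set.range j.base)ᶜ ⊆ T) :
    DGen9.SuppOn T K := fun i => (h i).trans hT

theorem isZero_rpush_obj (f : X ⟶ Y) {E : DCoh.D X} (hE : IsZero E) [DCoh.HasRpush f] :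
    IsZero ((DCoh.Rpush f).obj E) :=
  DMV.isZero_rpush f hE

/-- Direct images of objects vanishing over the preimage vanish on the open. -/
theorem isZero_resD_rpush (f : X ⟶ Y) (V : Y.Opens) {F : DCoh.D X}
    (hF : IsZero ((DPerf.resD (f ⁻¹ᵁ V).ι).obj F)) : IsZero ((DPerf.resD V.ι).obj ((DCoh.Rpush f).obj F)) := by
  obtain ⟨n⟩ := DBC9.nonempty_res_rpush f (f ∣_ V) V.ι (f ⁻¹ᵁ V).ι (isPullback_morphismRestrict f V)
  exact (DMV.isZero_rpush (f ∣_ V) hF).of_iso (n.app F)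

theorem unique_zero {S : DCoh.D X} (hS : IsZero ((DPerf.resD j).obj S)) (C : DCoh.D U)
    (g : S ⟶ (DCoh.Rpush j).obj C) : g = 0 :=
  (cancel_mono ((shiftFunctorZero (DCoh.D X) ℤ).inv.app _)).1 ((DGam9.subsingleton_hom j hS C 0).elim _ _)

theorem resD_isQCohD {K : DCoh.D X} (hK : DCoh.IsQCohD K) : DCoh.IsQCohD ((DPerf.resD j).obj K) := fun i =>
  M1.isQCoh_of_isIso (DPerf.hdResIso j K i).symm (M1.isQCoh_restrict (hK i) j)

theorem isIso_counit (adj : DPerf.resD j ⊣ DCoh.Rpush j) : IsIso adj.counit := by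
  haveI := DGen9.isIso_counit j
  haveI : (DCoh.Rpush j).Full := (DGen9.adjR j).fullyFaithfulROfIsIsoCounit.full
  haveI : (DCoh.Rpush j).Faithful := (DGen9.adjR j).fullyFaithfulROfIsIsoCounit.faithful
  exact adj.counit_isIso_of_R_fully_faithful

theorem isIso_resD_unit (adj : DPerf.resD j ⊣ DCoh.Rpush j) (K : DCoh.D X) :
    IsIso ((DPerf.resD j).map (adj.unit.app K)) := by
  haveI := isIso_counit j adj
  haveI : IsIso ((DPerf.resD j).map (adj.unit.app K) ≫ adj.counit.app ((DPerf.resD j).obj K)) := by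
    exact adj.left_triangle_components K ▸ inferInstanceAs (IsIso (𝟙 ((DPerf.resD j).obj K)))
  exact IsIso.of_isIso_comp_right _ (adj.counit.app ((DPerf.resD j).obj K))

/-- The cone of the unit of an object supported on a closed subset contained in the open. -/
theorem exists_cone (adj : DPerf.resD j ⊣ DCoh.Rpush j) (W : X.Opens) (G : DCoh.D X)
    (hG : IsZero ((DPerf.resD W.ι).obj G)) :
    ∃ (C : DCoh.D X) (q : (DCoh.Rpush j).obj ((DPerf.resD j).obj G) ⟶ C) (d : C ⟶ G⟦(1 : ℤ)⟧),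
      Triangle.mk (adj.unit.app G) q d ∈ distTriang _ ∧ IsZero ((DPerf.resD j).obj C) ∧
        IsZero ((DPerf.resD W.ι).obj C) := by
  obtain ⟨C, q, d, hT⟩ := distinguished_cocone_triangle (adj.unit.app G)
  haveI := isIso_resD_unit j adj G
  refine ⟨C, q, d, hT, DGen9.isZero_resD_cone j hT, ?_⟩
  have hpre : IsZero ((DPerf.resD W.ι).obj ((DCoh.Rpush j).obj ((DPerf.resD j).obj G))) := by
    refine isZero_resD_rpush j W ?_
    refine IsZero.of_iso ?_ ((DPerf.resDComp j (j ⁻¹ᵁ W).ι).app G)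
    rw [isZero_resD_iff]
    refine fun i => (((isZero_resD_iff W.ι).1 hG) i).trans (Set.compl_subset_compl.2 ?_)
    rintro x ⟨u, rfl⟩
    exact ⟨⟨j u.1, u.2⟩, rfl⟩
  haveI : IsIso ((DPerf.resD W.ι).map (adj.unit.app G)) :=
    ⟨0, hG.eq_of_src _ _, hpre.eq_of_src _ _⟩
  exact DGen9.isZero_resD_cone W.ι hT

theorem isIso_unit_of_compl_subset (adj : DPerf.resD j ⊣ DCoh.Rpush j) (W : X.Opens)
    (hW : (W : Set X)ᶜ ⊆ Set.range j.base) (G : DCoh.D X) (hG : IsZero ((DPerf.resD W.ι).obj G)) :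
    IsIso (adj.unit.app G) := by
  obtain ⟨C, q, d, hT, h1, h2⟩ := exists_cone j adj W G hG
  refine (Triangle.isZero₃_iff_isIso₁ _ hT).1 (isZero_of_suppOn_empty fun i x hx => ?_)
  have hx1 := (isZero_resD_iff j).1 h1 i hx
  have hx2 := (isZero_resD_iff W.ι).1 h2 i hx
  rw [Scheme.Opens.range_ι] at hx2
  exact hx1 (hW hx2)

theorem isIso_unit_RgammaZ (adj : DPerf.resD j ⊣ DCoh.Rpush j) (W : X.Opens)
    (hW : (W : Set X)ᶜ ⊆ Set.range j.base) [CxOX.HasRgammaZ W.ι] (G : DCoh.D X) :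
    IsIso (adj.unit.app ((CxOX.RgammaZ W.ι).obj G)) :=
  isIso_unit_of_compl_subset j adj W hW _ (DGam9.exists_triangle W.ι G).1

/-- Objects killed by `RΓ_T` receive no maps from objects supported away from `T`. -/
theorem subsingleton_hom_shift (T : X.Opens) [CxOX.HasRgammaZ T.ι] {G : DCoh.D X}
    (hG : IsZero ((CxOX.RgammaZ T.ι).obj G)) {S : DCoh.D X} (hS : IsZero ((DPerf.resD T.ι).obj S)) :
    Subsingleton (S ⟶ G⟦(1 : ℤ)⟧) := by
  obtain ⟨-, b, c, hT⟩ := DGam9.exists_triangle T.ι G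
  haveI : IsIso b := (Triangle.isZero₁_iff_isIso₂ _ hT).1 hG
  haveI := DGam9.subsingleton_hom T.ι hS ((DPerf.resD T.ι).obj G) 1
  exact ((Iso.refl S).homCongr ((shiftFunctor (DCoh.D X) (1 : ℤ)).mapIso (asIso b))).subsingleton

theorem equiv_supported (U₀ : U.Opens) (U' T : X.Opens)
    (hU' : (U' : Set X) = (closure (j.base '' ((U₀ : Set U)ᶜ)))ᶜ)
    (hT : (T : Set X) = (U' : Set X) ∪ Set.range j.base) [CxOX.HasRgammaZ T.ι]
    (adj : DPerf.resD j ⊣ DCoh.Rpush j) :
    (∀ F : DCoh.D U, CxOX.IsSuppD U₀.ι F →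
        CxOX.IsSuppD U'.ι ((DCoh.Rpush j).obj F) ∧ IsZero ((CxOX.RgammaZ T.ι).obj ((DCoh.Rpush j).obj F))) ∧
    (∀ G : DCoh.D X, CxOX.IsSuppD U'.ι G → IsZero ((CxOX.RgammaZ T.ι).obj G) →
        IsIso (adj.unit.app G) ∧ CxOX.IsSuppD U₀.ι ((DPerf.resD j).obj G)) := by
  have hU₀ : ∀ u : U, u ∈ U₀ → j.base u ∈ U' := fun u hu => by
    show j.base u ∈ (U' : Set X)
    rw [hU', Set.mem_compl_iff]
    intro hc
    have h1 : u ∈ closure ((U₀ : Set U)ᶜ) := by
      rw [j.isOpenEmbedding.isInducing.closure_eq_preimage_closure_image]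
      exact hc
    rw [(show IsClosed ((U₀ : Set U)ᶜ) from isClosed_compl_iff.2 U₀.2).closure_eq] at h1
    exact h1 hu
  have hjT : Set.range j.base ⊆ Set.range T.ι.base := by
    rw [Scheme.Opens.range_ι]
    exact hT ▸ Set.subset_union_right
  refine ⟨fun F hF => ⟨?_, ?_⟩, fun G hG hz => ⟨?_, ?_⟩⟩
  · rw [← isZero_resD_iff]
    refine isZero_resD_rpush j U' ((isZero_resD_iff _).2 fun i => (hF i).trans (Set.compl_subset_compl.2 ?_))
    rw [Scheme.Opens.range_ι, Scheme.Opens.range_ι]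
    intro u hu
    by_contra h
    have h' : j.base u ∈ (U' : Set X) := hu
    rw [hU'] at h'
    exact h' (subset_closure ⟨u, h, rfl⟩)
  · obtain ⟨hA, b, c, hd⟩ := DGam9.exists_triangle T.ι ((DCoh.Rpush j).obj F)
    rw [IsZero.iff_id_eq_zero]
    refine (DGam9.bijective_comp_RgammaZToId T.ι hA ((DCoh.Rpush j).obj F)).1 ?_
    show 𝟙 _ ≫ _ = 0 ≫ _
    rw [Category.id_comp, zero_comp]
    refine unique_zero j ?_ F _
    rw [isZero_resD_iff]
    exact fun i => ((isZero_resD_iff T.ι).1 hA i).trans (Set.compl_subset_compl.2 hjT)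
  · obtain ⟨C, q, d, hd, h1, h2⟩ := exists_cone j adj U' G ((isZero_resD_iff _).2 hG)
    have hC : IsZero ((DPerf.resD T.ι).obj C) := by
      rw [isZero_resD_iff]
      intro i x hx
      rintro ⟨t, rfl⟩
      have ht : T.ι.base t ∈ (T : Set X) := t.2
      rw [hT] at ht
      rcases ht with ht | ht
      · exact (isZero_resD_iff U'.ι).1 h2 i hx ⟨⟨_, ht⟩, rfl⟩
      · exact (isZero_resD_iff j).1 h1 i hx ht
    refine (Triangle.isZero₃_iff_isIso₁ _ hd).1 ?_
    show IsZero C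
    have hd0 : d = 0 := (subsingleton_hom_shift T hz hC).elim _ _
    obtain ⟨r, hr⟩ := Triangle.coyoneda_exact₃ _ hd (𝟙 C) (show 𝟙 C ≫ d = 0 by rw [hd0, comp_zero])
    rw [IsZero.iff_id_eq_zero]
    refine hr.trans ?_
    rw [show r = 0 from unique_zero j h1 _ r, zero_comp]
  · rw [← isZero_resD_iff]
    refine IsZero.of_iso ?_ ((DPerf.resDComp j U₀.ι).app G)
    rw [isZero_resD_iff]
    refine fun i => (hG i).trans (Set.compl_subset_compl.2 ?_)
    rintro x ⟨u, rfl⟩
    exact ⟨⟨j.base u.1, hU₀ u.1 u.2⟩, rfl⟩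

end Groth.Agent.CxOX1
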