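import Groth.Agent.Lib.CxOX1.LTCone
import Groth.Agent.Lib.DMon9.LpullIso
import Groth.Agent.Lib.DMon9.ProjQC

/-!
Sections with supports and derived tensor products.
-/

set_option autoImplicit false
set_option linter.unusedSectionVars false
set_option linter.style.haveILetI false
set_option backward.isDefEq.respectTransparency false
set_option backward.isDefEq.respectTransparency.types false
set_option maxHeartbeats 800000

universe u

open CategoryTheory CategoryTheory.Limits MonoidalCategory AlgebraicGeometry Pretriangulated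

attribute [local instance] HasDerivedCategory.standard

namespace Groth.Agent.CxOX1

attribute [local instance] DBC9.hasRpush

open DMon9 KFlat KFlat.Sch

variable {X : Scheme.{u}}

theorem isZero_tR (K : KF X) {A : DCoh.D X} (hA : IsZero A) : IsZero ((tR K).obj A) := by
  haveI := KFlat.Sch.hasLTensorCx K.obj
  exact ((DCoh.LTensorCx K.obj).map_isZero hA).of_iso ((theta K).app A)

theorem isZero_resD_LT (U : X.Opens) (E : CochainComplex X.Modules ℤ) [DCoh.HasLTensorCx E] {A : DCoh.D X}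
    (hA : IsZero ((DPerf.resD U.ι).obj A)) : IsZero ((DPerf.resD U.ι).obj ((DCoh.LTensorCx E).obj A)) := by
  obtain ⟨K, -, hK⟩ := nonempty_ltensor_iso E
  obtain ⟨a⟩ := hK A
  obtain ⟨K', ⟨e⟩⟩ := exists_qM (((dPull U.ι).obj ((qM X).obj K) : DM (U : Scheme.{u})) : DCoh.D (U : Scheme.{u}))
  let e' : (qM (U : Scheme.{u})).obj K' ≅ (dPull U.ι).obj ((qM X).obj K) := e
  let i : (lP U.ι).obj ((tR K).obj A) ≅ (tR K').obj ((lP U.ι).obj A) :=
    ((Functor.Monoidal.μIso (dPull U.ι) (A : DM X) ((qM X).obj K)).symm ≪≫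
      whiskerLeftIso ((dPull U.ι).obj (A : DM X)) e'.symm :)
  exact (isZero_tR K' (hA.of_iso ((lPRes U.ι).app A))).of_iso
    ((DPerf.resD U.ι).mapIso a ≪≫ (lPRes U.ι).symm.app _ ≪≫ i)

theorem exists_factor_tensor (U : X.Opens) [QuasiCompact U.ι] [CxOX.HasRgammaZ U.ι] (F : DCoh.D X)
    (hF : DCoh.IsQCohD F) (E : CochainComplex X.Modules ℤ) (hE : DCoh.IsQCohD (DCoh.toD X E))
    [DCoh.HasLTensorCx E] :
    (∃ φ : (DCoh.LTensorCx E).obj ((CxOX.RgammaZ U.ι).obj F) ⟶ (CxOX.RgammaZ U.ι).obj ((DCoh.LTensorCx E).obj F),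
        φ ≫ (CxOX.RgammaZToId U.ι).app ((DCoh.LTensorCx E).obj F) =
          (DCoh.LTensorCx E).map ((CxOX.RgammaZToId U.ι).app F)) ∧
    ∀ φ : (DCoh.LTensorCx E).obj ((CxOX.RgammaZ U.ι).obj F) ⟶ (CxOX.RgammaZ U.ι).obj ((DCoh.LTensorCx E).obj F),
        φ ≫ (CxOX.RgammaZToId U.ι).app ((DCoh.LTensorCx E).obj F) =
          (DCoh.LTensorCx E).map ((CxOX.RgammaZToId U.ι).app F) → IsIso φ := by
  obtain ⟨hA, b, c, hT⟩ := DGam9.exists_triangle U.ι F
  have hS := isZero_resD_LT U E hA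
  refine ⟨(DGam9.bijective_comp_RgammaZToId _ hS _).2 _, fun φ hφ => ?_⟩
  obtain ⟨C', b', c', i₃, hd⟩ := exists_cone_LT E _ hT
  haveI : DCoh.HasLpull U.ι := KFlat.Sch.hasLpull U.ι
  let M := DerivedCategory.Q.objPreimage ((DCoh.Lpull U.ι).obj (DCoh.toD X E))
  haveI : DCoh.HasLTensorCx M := KFlat.Sch.hasLTensorCx M
  obtain ⟨p⟩ := nonempty_projection_qc U.ι ((DPerf.resD U.ι).obj F) (resD_isQCohD U.ι hF) E hE M
    ⟨DerivedCategory.Q.objObjPreimageIso _⟩
  exact DGam9.isIso_factor _ hS hd (i₃ ≪≫ p) φ hφ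

end Groth.Agent.CxOX1
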